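import Cfsg.Agent.H62.S8.ONOut
import Cfsg.Agent.H58.S8.Iso

/-!
# S4908, the O'Nan group: the OUT row for the groups with the predicate `IsON` (helper62)
-/

set_option autoImplicit false

namespace Cfsg.Agent.H62.S8.ONOut

open Cfsg Cfsg.Agent.H704.S8

universe v

/-- **the OUT row of the O'Nan group** -/
theorem out {X : Type v} [Group X] [Finite X] (h : IsON X) : OutRow3 2 X := out_iso (H58.S8.iso_on h)

end Cfsg.Agent.H62.S8.ONOut
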