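import Mathlib

/-!
# Conjugacy of the powers of an element of prime order with an automizer of odd order `(p - 1) / 2` (helper62)
-/

set_option autoImplicit false

namespace Cfsg.Agent.H62.S8.HalfPow

open Subgroup

universe u

variable {X : Type u} [Group X]

/-- the automizer as a relation of conjugacy -/
theorem mem_range_iff {x y : X} (hy : y ∈ zpowers x) (β : MulAut (zpowers x))
    (hβ : ((β ⟨x, mem_zpowers x⟩ : zpowers x) : X) = y) :
    β ∈ (zpowers x).normalizerMonoidHom.range ↔ IsConj x y := by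
  constructor
  · rintro ⟨n, rfl⟩
    exact isConj_iff.2 ⟨n, hβ⟩
  · intro h
    obtain ⟨c, hc⟩ := isConj_iff.1 h
    have hgen : zpowers y = zpowers x := by
      obtain ⟨k, hk⟩ : ∃ z : ℤ, (β ⟨x, mem_zpowers x⟩ : zpowers x) ^ z = ⟨x, mem_zpowers x⟩ := by
        obtain ⟨z, hz⟩ := mem_zpowers_iff.1 (β.symm ⟨x, mem_zpowers x⟩).2
        refine ⟨z, ?_⟩
        rw [← map_zpow]
        have h1 : (⟨x, mem_zpowers x⟩ : zpowers x) ^ z = β.symm ⟨x, mem_zpowers x⟩ := Subtype.ext (by
          rw [SubgroupClass.coe_zpow]; exact hz)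
        rw [h1]
        exact β.apply_symm_apply _
      apply le_antisymm (zpowers_le.2 hy)
      rw [zpowers_le]
      refine ⟨k, ?_⟩
      have h2 := congrArg Subtype.val hk
      rw [SubgroupClass.coe_zpow, hβ] at h2
      exact h2
    have hn : c ∈ normalizer (zpowers x : Set X) := by
      rw [mem_normalizer_iff]
      intro g
      constructor
      · intro hg
        obtain ⟨k, rfl⟩ := mem_zpowers_iff.1 hg
        rw [← hgen]
        refine ⟨k, ?_⟩
        show y ^ k = c * x ^ k * c⁻¹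
        rw [← conj_zpow, hc]
      · intro hg
        rw [← hgen] at hg
        obtain ⟨k, hk⟩ := mem_zpowers_iff.1 hg
        refine ⟨k, ?_⟩
        show x ^ k = g
        rw [← hc, conj_zpow] at hk
        exact mul_left_cancel (mul_right_cancel hk)
    refine ⟨⟨c, hn⟩, ?_⟩
    apply MulEquiv.ext
    rintro ⟨g, hg⟩
    obtain ⟨k, rfl⟩ := mem_zpowers_iff.1 hg
    have h1 : (⟨x ^ k, hg⟩ : zpowers x) = ⟨x, mem_zpowers x⟩ ^ k := Subtype.ext (by rw [SubgroupClass.coe_zpow])
    rw [h1, map_zpow, map_zpow]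
    congr 1
    apply Subtype.ext
    show c * x * c⁻¹ = _
    rw [hc, hβ]

/-- the powers are conjugate to `x` or `x⁻¹`, and `x`, `x⁻¹` are not conjugate -/
theorem half [Finite X] {p : ℕ} (hp : p.Prime) {x : X} (hx : orderOf x = p) {e : ℕ} (he : Odd e)
    (h : Nat.card (zpowers x).normalizerMonoidHom.range = e) (h2 : 2 * e = p - 1) :
    (∀ k : ℕ, 0 < k → k < p → IsConj x (x ^ k) ∨ IsConj x⁻¹ (x ^ k)) ∧ ¬ IsConj x x⁻¹ := by
  have := Fact.mk hp
  have hPc : Nat.card (zpowers x) = p := by rw [Nat.card_zpowers, hx]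
  have hM : Nat.card (MulAut (zpowers x)) = p - 1 := by
    rw [IsCyclic.card_mulAut, hPc, Nat.totient_prime hp]
  have hidx : (zpowers x).normalizerMonoidHom.range.index = 2 := by
    have h3 := (zpowers x).normalizerMonoidHom.range.card_mul_index
    rw [h, hM, ← h2, mul_comm] at h3
    exact Nat.eq_of_mul_eq_mul_right he.pos h3
  have hcomm : ∀ a b : zpowers x, a * b = b * a := by
    rintro ⟨a, ha⟩ ⟨b, hb⟩
    obtain ⟨i, rfl⟩ := mem_zpowers_iff.1 ha
    obtain ⟨j, rfl⟩ := mem_zpowers_iff.1 hb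
    exact Subtype.ext ((Commute.refl x).zpow_zpow i j).eq
  -- the automorphisms `y ↦ y ^ k`
  have hpow : ∀ k : ℕ, 0 < k → k < p → ∃ β : MulAut (zpowers x), ∀ y, β y = y ^ k := by
    intro k h0 hk
    have hcop : (Nat.card (zpowers x)).Coprime k := by
      rw [hPc]
      exact (hp.coprime_iff_not_dvd.2 (Nat.not_dvd_of_pos_of_lt h0 hk))
    exact ⟨{ powCoprime hcop with map_mul' := fun a b => (show Commute a b from hcomm a b).mul_pow k }, fun y => rfl⟩
  -- the inversion
  let ι : MulAut (zpowers x) :=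
    { toFun := fun y => y⁻¹
      invFun := fun y => y⁻¹
      left_inv := fun y => inv_inv y
      right_inv := fun y => inv_inv y
      map_mul' := fun a b => by rw [mul_inv_rev, hcomm] }
  have hιx : ((ι ⟨x, mem_zpowers x⟩ : zpowers x) : X) = x⁻¹ := rfl
  have hιι : ι * ι = 1 := MulEquiv.ext fun y => inv_inv y
  have hι : ι ∉ (zpowers x).normalizerMonoidHom.range := by
    intro h3
    have h4 : orderOf ι ∣ e := by
      rw [← h]
      exact Subgroup.orderOf_dvd_natCard _ h3
    have h5 : orderOf ι ∣ 2 := orderOf_dvd_of_pow_eq_one (by rw [pow_two, hιι])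
    have h6 : orderOf ι = 1 := by
      rcases (Nat.dvd_prime Nat.prime_two).1 h5 with h6 | h6
      · exact h6
      · rw [h6] at h4
        exact absurd h4 (by rw [← even_iff_two_dvd]; exact Nat.not_even_iff_odd.2 he)
    have h7 : ι = 1 := orderOf_eq_one_iff.1 h6
    have h8 : x⁻¹ = x := by rw [← hιx, h7]; rfl
    have h9 : x ^ 2 = 1 := by
      rw [pow_two]
      nth_rewrite 1 [← h8]
      exact inv_mul_cancel x
    have h10 : orderOf x ∣ 2 := orderOf_dvd_of_pow_eq_one h9
    rw [hx] at h10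
    have h11 := Nat.le_of_dvd (by norm_num) h10
    have h12 := he.pos
    omega
  refine ⟨fun k h0 hk => ?_, fun h3 => hι ?_⟩
  · obtain ⟨β, hβ⟩ := hpow k h0 hk
    have hβx : ((β ⟨x, mem_zpowers x⟩ : zpowers x) : X) = x ^ k := by rw [hβ]; rfl
    by_cases h3 : β ∈ (zpowers x).normalizerMonoidHom.range
    · exact Or.inl ((mem_range_iff (pow_mem (mem_zpowers x) k) β hβx).1 h3)
    · right
      have h4 : ι * β ∈ (zpowers x).normalizerMonoidHom.range := by
        rw [Subgroup.mul_mem_iff_of_index_two hidx]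
        exact ⟨fun h => absurd h hι, fun h => absurd h h3⟩
      have h5 : (((ι * β) ⟨x, mem_zpowers x⟩ : zpowers x) : X) = (x ^ k)⁻¹ := by
        show ((β ⟨x, mem_zpowers x⟩ : zpowers x) : X)⁻¹ = _
        rw [hβx]
      have h6 := (mem_range_iff (inv_mem (pow_mem (mem_zpowers x) k)) _ h5).1 h4
      obtain ⟨c, hc⟩ := isConj_iff.1 h6
      refine isConj_iff.2 ⟨c, ?_⟩
      rw [← conj_inv, hc, inv_inv]
  · exact (mem_range_iff (inv_mem (mem_zpowers x)) ι hιx).2 h3

end Cfsg.Agent.H62.S8.HalfPow
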