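import Cfsg.Agent.SporadicA.M11CharBasic
import Cfsg.Agent.S0145
import Cfsg.Agent.H424.DegTools
import Cfsg.Agent.H704.S8.Defs3

/-!
# S4908: `cd(X) ≠ cd(Aut X)` from one element of prime order inverted by an outer automorphism (helper62)

`X` has an element `x` of prime order `p = |C(x)|`, not conjugate to `x⁻¹`, with all `x ^ k` conjugate to `x` or `x⁻¹`,
and an automorphism `α` such that `α x` is conjugate to `x⁻¹`. Then the nonreal characters at `x` have degrees which are
not congruent mod `p` to a small integer, but the degrees of `Aut X` are: `ne_of_inverted`. No character table is used.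
-/

set_option autoImplicit false

namespace Cfsg.Agent.H62.S8.InvDeg

open Cfsg Subgroup Cfsg.Agent.Characters.Core Cfsg.Agent.Characters.GaloisBasic Cfsg.Agent.H424.DegTools
open scoped ComplexConjugate

universe u v

section Gen

variable {G : Type u} [Group G] [Finite G]

/-- values of a character constant on the generators of a subgroup of prime order (after `M11CharBasic`) -/
theorem values {χ : G → ℂ} (hχ : IsCharacter G χ) {p : ℕ} (hp : p.Prime) {x : G} (hx : x ^ p = 1)
    (h : ∀ k : ℕ, 0 < k → k < p → χ (x ^ k) = χ x) :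
    ∃ (n : ℕ) (v : ℤ), χ 1 = n ∧ χ x = v ∧ (p : ℤ) ∣ n - v := by
  obtain ⟨n, μ, h1, hμ, hk⟩ := isCharacter_exists_fin_pow hχ x (n := p) hp.ne_zero hx
  have hp1 : 1 < p := hp.one_lt
  have hper : ∀ i : Fin n, ∃ a : ℤ, ∑ k ∈ Finset.range p, μ i ^ k = p * a := by
    intro i
    by_cases h : μ i = 1
    · exact ⟨1, by simp [h]⟩
    · refine ⟨0, ?_⟩
      have h2 := mul_neg_geom_sum (μ i) p
      rw [hμ i, sub_self] at h2
      rcases mul_eq_zero.1 h2 with h3 | h3
      · exact absurd (sub_eq_zero.1 h3).symm h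
      · rw [h3]; simp
  choose a ha using hper
  have hS : ∑ k ∈ Finset.range p, χ (x ^ k) = p * ((∑ i, a i : ℤ) : ℂ) := by
    simp only [hk]
    rw [Finset.sum_comm]
    simp only [ha]
    rw [← Finset.mul_sum]
    push_cast
    rfl
  generalize (∑ i, a i : ℤ) = a' at hS
  have hS2 : ∑ k ∈ Finset.range p, χ (x ^ k) = n + (p - 1) * χ x := by
    obtain ⟨q, rfl⟩ : ∃ q, p = q + 1 := ⟨p - 1, by omega⟩
    rw [Finset.sum_range_succ']
    have h3 : ∀ k ∈ Finset.range q, χ (x ^ (k + 1)) = χ x := by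
      intro k hk
      rw [Finset.mem_range] at hk
      exact h (k + 1) (by omega) (by omega)
    rw [Finset.sum_congr rfl h3]
    simp [h1]
    ring
  have hp0 : ((p : ℂ) - 1) ≠ 0 := by
    have : ((p : ℂ)) ≠ 1 := by exact_mod_cast hp1.ne'
    exact sub_ne_zero.2 this
  obtain ⟨v, hv⟩ : ∃ v : ℤ, χ x = v := by
    apply exists_int_of_isIntegral (isIntegral_apply hχ x)
    refine ⟨(p * a' - n) / (p - 1), ?_⟩
    push_cast
    rw [eq_div_iff hp0]
    have := hS.symm.trans hS2
    linear_combination -this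
  refine ⟨n, v, h1, hv, ?_⟩
  have h4 : (p : ℤ) * a' = n + (p - 1) * v := by
    have : (p : ℂ) * a' = n + (p - 1) * v := by rw [← hv, ← hS, hS2]
    exact_mod_cast this
  exact ⟨a' - v, by linarith⟩

/-- the sum of the squares -/
theorem sum_normSq [Fintype (IrrCharacter G)] (x : G) :
    ∑ χ : IrrCharacter G, Complex.normSq ((χ : G → ℂ) x) = Nat.card (centralizer ({x} : Set G)) := by
  classical
  have := Fintype.ofFinite G
  have e := S0145.sum_irr_mul_conj x x
  rw [if_pos (IsConj.refl x)] at e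
  simp only [Complex.mul_conj] at e
  have e2 : ((∑ χ : IrrCharacter G, Complex.normSq ((χ : G → ℂ) x) : ℝ) : ℂ) =
      ((Nat.card (centralizer ({x} : Set G)) : ℝ) : ℂ) := by
    push_cast
    exact_mod_cast e
  exact_mod_cast e2

theorem sum_le (s : Finset (IrrCharacter G)) (x : G) :
    ∑ χ ∈ s, Complex.normSq ((χ : G → ℂ) x) ≤ Nat.card (centralizer ({x} : Set G)) := by
  classical
  have := finite_irr (G := G)
  have := Fintype.ofFinite (IrrCharacter G)
  rw [← sum_normSq x]
  exact Finset.sum_le_sum_of_subset_of_nonneg (Finset.subset_univ _) fun _ _ _ => Complex.normSq_nonneg _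

/-- a nonreal character -/
theorem exists_ne {x : G} (hx : ¬ IsConj x x⁻¹) : ∃ χ : IrrCharacter G, (χ : G → ℂ) x ≠ conj ((χ : G → ℂ) x) := by
  classical
  have := Fintype.ofFinite G
  have := finite_irr (G := G)
  have := Fintype.ofFinite (IrrCharacter G)
  by_contra hcon
  push Not at hcon
  have e := S0145.sum_irr_mul_conj x x⁻¹
  rw [if_neg hx] at e
  have e2 := S0145.sum_irr_mul_conj x x
  rw [if_pos (IsConj.refl x)] at e2
  have h3 : ∑ χ : IrrCharacter G, (χ : G → ℂ) x * conj ((χ : G → ℂ) x⁻¹) =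
      ∑ χ : IrrCharacter G, (χ : G → ℂ) x * conj ((χ : G → ℂ) x) := by
    refine Finset.sum_congr rfl fun χ _ => ?_
    rw [isCharacter_apply_inv (isIrr_isCharacter χ.2) x, ← hcon χ, ← hcon χ]
  rw [h3, e2] at e
  have h4 : Nat.card (centralizer ({x} : Set G)) = 0 := by exact_mod_cast e
  exact Nat.card_pos.ne' h4

/-- a degree of a group with a rational element of prime order -/
theorem rat_degree {p : ℕ} (hp : p.Prime) {y : G} (hy : y ^ p = 1) (hpow : ∀ k : ℕ, 0 < k → k < p → IsConj y (y ^ k))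
    {d : ℕ} (hd : d ∈ charDegrees G) : ∃ m : ℤ, (p : ℤ) ∣ d - m ∧ m * m ≤ Nat.card (centralizer ({y} : Set G)) := by
  obtain ⟨ψ, hψ, h1⟩ := mem_charDegrees.1 hd
  obtain ⟨n, v, h2, h3, h4⟩ := values (isIrr_isCharacter hψ) hp hy fun k h0 hk =>
    (classFunction_apply_eq (isIrr_isClassFunction hψ) (hpow k h0 hk)).symm
  refine ⟨v, ?_, ?_⟩
  · have h5 : n = d := by
      rw [h1] at h2
      exact_mod_cast h2.symm
    rwa [h5] at h4
  · have h5 := sum_le {(⟨ψ, hψ⟩ : IrrCharacter G)} y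
    rw [Finset.sum_singleton] at h5
    change Complex.normSq (ψ y) ≤ _ at h5
    rw [h3, show ((v : ℤ) : ℂ) = (((v : ℤ) : ℝ) : ℂ) by push_cast; rfl, Complex.normSq_ofReal] at h5
    exact_mod_cast h5

/-- the degree of a nonreal character -/
theorem nonreal_degree {p : ℕ} (hp : p.Prime) {x : G} (hx : x ^ p = 1)
    (hC : Nat.card (centralizer ({x} : Set G)) = p)
    (hpow : ∀ k : ℕ, 0 < k → k < p → IsConj x (x ^ k) ∨ IsConj x⁻¹ (x ^ k)) (hni : ¬ IsConj x x⁻¹) :
    ∃ d ∈ charDegrees G, ∃ a N : ℤ, (p : ℤ) ∣ 2 * d - a ∧ (p : ℤ) ∣ d * d - N ∧ a * a < 4 * N ∧ 2 * N < p := by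
  classical
  obtain ⟨χ, hχ⟩ := exists_ne hni
  have hch := isIrr_isCharacter χ.2
  have hcl := isIrr_isClassFunction χ.2
  obtain ⟨d, -, hd⟩ := isIrr_apply_one χ.2
  have hval : ∀ k : ℕ, 0 < k → k < p → (χ : G → ℂ) (x ^ k) = (χ : G → ℂ) x ∨
      (χ : G → ℂ) (x ^ k) = conj ((χ : G → ℂ) x) := by
    intro k h0 hk
    rcases hpow k h0 hk with h | h
    · exact Or.inl (classFunction_apply_eq hcl h).symm
    · right
      rw [← classFunction_apply_eq hcl h, isCharacter_apply_inv hch]
  obtain ⟨n1, a, h1, h2, h3⟩ := values (isCharacter_add hch (isCharacter_conj hch)) hp hx (by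
    intro k h0 hk
    show (χ : G → ℂ) (x ^ k) + conj ((χ : G → ℂ) (x ^ k)) = (χ : G → ℂ) x + conj ((χ : G → ℂ) x)
    rcases hval k h0 hk with h | h
    · rw [h]
    · rw [h, Complex.conj_conj, add_comm])
  obtain ⟨n2, N, k1, k2, k3⟩ := values (isCharacter_mul hch (isCharacter_conj hch)) hp hx (by
    intro k h0 hk
    show (χ : G → ℂ) (x ^ k) * conj ((χ : G → ℂ) (x ^ k)) = (χ : G → ℂ) x * conj ((χ : G → ℂ) x)
    rcases hval k h0 hk with h | h
    · rw [h]
    · rw [h, Complex.conj_conj, mul_comm])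
  change (χ : G → ℂ) 1 + conj ((χ : G → ℂ) 1) = n1 at h1
  change (χ : G → ℂ) x + conj ((χ : G → ℂ) x) = a at h2
  change (χ : G → ℂ) 1 * conj ((χ : G → ℂ) 1) = n2 at k1
  change (χ : G → ℂ) x * conj ((χ : G → ℂ) x) = N at k2
  rw [hd, Complex.conj_natCast] at h1 k1
  have hn1 : n1 = 2 * d := by
    have : ((n1 : ℕ) : ℂ) = ((2 * d : ℕ) : ℂ) := by rw [← h1]; push_cast; ring
    exact_mod_cast this
  have hn2 : n2 = d * d := by
    have : ((n2 : ℕ) : ℂ) = ((d * d : ℕ) : ℂ) := by rw [← k1]; push_cast; ring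
    exact_mod_cast this
  obtain ⟨z, hz⟩ : ∃ z, z = (χ : G → ℂ) x := ⟨_, rfl⟩
  rw [← hz] at hχ h2 k2
  have him : z.im ≠ 0 := fun h => hχ (Complex.conj_eq_iff_im.2 h).symm
  have hre : (a : ℝ) = 2 * z.re := by
    have := congrArg Complex.re h2
    simp only [Complex.add_re, Complex.conj_re, Complex.intCast_re] at this
    rw [← this]; ring
  have hN : (N : ℝ) = z.re * z.re + z.im * z.im := by
    rw [Complex.mul_conj] at k2
    have := congrArg Complex.re k2
    rw [Complex.ofReal_re, Complex.intCast_re] at this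
    rw [← this, Complex.normSq_apply]
  refine ⟨d, mem_charDegrees.2 ⟨_, χ.2, hd⟩, a, N, ?_, ?_, ?_, ?_⟩
  · rw [hn1] at h3
    exact_mod_cast h3
  · rw [hn2] at k3
    exact_mod_cast k3
  · have : (a : ℝ) * a < 4 * N := by
      rw [hre, hN]
      have := mul_self_pos.2 him
      nlinarith
    exact_mod_cast this
  · -- the sum of the squares of `1`, `χ`, `conj χ`
    have hχ' := isIrr_conj χ.2
    have e1 : (⟨1, isIrr_one⟩ : IrrCharacter G) ≠ χ := by
      intro h
      apply him
      rw [hz, ← h]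
      simp
    have e2 : (⟨1, isIrr_one⟩ : IrrCharacter G) ≠ ⟨_, hχ'⟩ := by
      intro h
      apply him
      have h4 := congrFun (congrArg Subtype.val h) x
      change (1 : ℂ) = conj ((χ : G → ℂ) x) at h4
      rw [← hz] at h4
      have h5 := congrArg Complex.im h4
      simp only [Complex.one_im, Complex.conj_im] at h5
      linarith
    have e3 : χ ≠ ⟨_, hχ'⟩ := by
      intro h
      have h4 := congrFun (congrArg Subtype.val h) x
      change (χ : G → ℂ) x = conj ((χ : G → ℂ) x) at h4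
      rw [← hz] at h4
      exact hχ h4
    have h5 := sum_le {(⟨1, isIrr_one⟩ : IrrCharacter G), χ, ⟨_, hχ'⟩} x
    rw [Finset.sum_insert (by simp only [Finset.mem_insert, Finset.mem_singleton, not_or]; exact ⟨e1, e2⟩),
      Finset.sum_pair e3, hC] at h5
    change Complex.normSq (1 : ℂ) + (Complex.normSq ((χ : G → ℂ) x) + Complex.normSq (conj ((χ : G → ℂ) x))) ≤ _ at h5
    rw [← hz, Complex.normSq_conj, map_one, Complex.normSq_apply, ← hN] at h5
    have h6 : (1 : ℤ) + (N + N) ≤ p := by exact_mod_cast h5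
    omega

end Gen

/-- the centralizer of an inner automorphism -/
theorem card_cent_le {X : Type v} [Group X] [Finite X] (hinj : Function.Injective (MulAut.conj : X →* MulAut X)) {c : ℕ}
    (hi : (MulAut.conj : X →* MulAut X).range.index ≤ c) (x : X) :
    Nat.card (centralizer ({MulAut.conj x} : Set (MulAut X))) ≤ c * Nat.card (centralizer ({x} : Set X)) := by
  classical
  obtain ⟨C, hCd⟩ : ∃ C, C = centralizer ({MulAut.conj x} : Set (MulAut X)) := ⟨_, rfl⟩
  rw [← hCd]
  obtain ⟨I, hI⟩ : ∃ I, I = (MulAut.conj : X →* MulAut X).range := ⟨_, rfl⟩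
  rw [← hI] at hi
  have h1 : Nat.card ↥(I ⊓ C : Subgroup (MulAut X)) ≤ Nat.card (centralizer ({x} : Set X)) := by
    have h2 : (I ⊓ C : Subgroup (MulAut X)) ≤ (centralizer ({x} : Set X)).map (MulAut.conj : X →* MulAut X) := by
      rintro β ⟨hβ1, hβ2⟩
      rw [hI] at hβ1
      obtain ⟨g, rfl⟩ := hβ1
      refine ⟨g, ?_, rfl⟩
      rw [hCd] at hβ2
      have h3 := mem_centralizer_singleton_iff.1 hβ2
      rw [← map_mul, ← map_mul] at h3
      exact mem_centralizer_singleton_iff.2 (hinj h3)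
    refine (Nat.card_le_card_of_injective _ (Subgroup.inclusion_injective h2)).trans ?_
    exact (Subgroup.card_map_of_injective hinj).le
  have h2 : Nat.card C = Nat.card ↥(I ⊓ C : Subgroup (MulAut X)) * (I.relIndex C) := by
    have h3 := relIndex_mul_relIndex (⊥ : Subgroup (MulAut X)) (I ⊓ C) C bot_le inf_le_right
    rw [relIndex_bot_left, relIndex_bot_left, inf_relIndex_right] at h3
    exact h3.symm
  have h3 : I.relIndex C ≤ I.index := by
    have h4 := relIndex_le_of_le_right (H := I) (le_top : C ≤ ⊤) (by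
      rw [relIndex_top_right]; exact FiniteIndex.index_ne_zero)
    rwa [relIndex_top_right] at h4
  calc Nat.card C = Nat.card ↥(I ⊓ C : Subgroup (MulAut X)) * (I.relIndex C) := h2
    _ ≤ Nat.card (centralizer ({x} : Set X)) * c := Nat.mul_le_mul h1 (h3.trans hi)
    _ = _ := mul_comm _ _

/-- **`cd(X) ≠ cd(Aut X)`** from an element of prime order inverted by an automorphism, general form -/
theorem ne_of_inverted' {X : Type v} [Group X] [Finite X] {p : ℕ} (hp : p.Prime) {x : X} (hx : orderOf x = p)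
    (hC : Nat.card (centralizer ({x} : Set X)) = p)
    (hpow : ∀ k : ℕ, 0 < k → k < p → IsConj x (x ^ k) ∨ IsConj x⁻¹ (x ^ k)) (hni : ¬ IsConj x x⁻¹)
    (α : MulAut X) (hα : IsConj (α x) x⁻¹) {C : ℕ}
    (hCA : Nat.card (centralizer ({MulAut.conj x} : Set (MulAut X))) ≤ C)
    (hnum : ∀ a m : ℤ, a * a < 2 * p → m * m ≤ C → (p : ℤ) ∣ a - 2 * m → a = 2 * m) :
    charDegrees X ≠ charDegrees (MulAut X) := by
  intro heq
  have hxp : x ^ p = 1 := by rw [← hx]; exact pow_orderOf_eq_one x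
  obtain ⟨d, hd, a, N, h1, h2, h3, h4⟩ := nonreal_degree hp hxp hC hpow hni
  rw [heq] at hd
  have hyp : (MulAut.conj x : MulAut X) ^ p = 1 := by rw [← map_pow, hxp, map_one]
  have hmap : ∀ {g h : X}, IsConj g h → IsConj (MulAut.conj g : MulAut X) (MulAut.conj h) := fun h =>
    MonoidHom.map_isConj (MulAut.conj : X →* MulAut X) h
  have hinv : IsConj (MulAut.conj x : MulAut X) (MulAut.conj x⁻¹) := by
    refine IsConj.trans ?_ (hmap hα)
    refine isConj_iff.2 ⟨α, ?_⟩
    ext g
    show α (x * α⁻¹ g * x⁻¹) = α x * g * (α x)⁻¹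
    rw [map_mul, map_mul, map_inv, MulAut.apply_inv_self]
  obtain ⟨m, m1, m2⟩ := rat_degree hp hyp (fun k h0 hk => by
    rw [← map_pow]
    rcases hpow k h0 hk with h | h
    · exact hmap h
    · exact hinv.trans (hmap h)) hd
  have h5 : (p : ℤ) ∣ a - 2 * m := by
    have h6 : a - 2 * m = 2 * (d - m) - (2 * d - a) := by ring
    rw [h6]
    exact dvd_sub (dvd_mul_of_dvd_right m1 _) h1
  have h6 := hnum a m (by linarith) (m2.trans (by exact_mod_cast hCA)) h5
  have h7 : (p : ℤ) ∣ N - m * m := by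
    have h8 : N - m * m = (d - m) * (d + m) - (d * d - N) := by ring
    rw [h8]
    exact dvd_sub (dvd_mul_of_dvd_left m1 _) h2
  rw [h6] at h3
  have h8 : 0 < N - m * m := by nlinarith
  have h9 := Int.le_of_dvd h8 h7
  have h10 := mul_self_nonneg m
  have h11 : (0 : ℤ) < p := by exact_mod_cast hp.pos
  linarith

/-- **`cd(X) ≠ cd(Aut X)`** from an element of prime order inverted by an automorphism, `|Out X| ≤ 2` -/
theorem ne_of_inverted {X : Type v} [Group X] [Finite X] (hinj : Function.Injective (MulAut.conj : X →* MulAut X))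
    (hi : (MulAut.conj : X →* MulAut X).range.index ≤ 2) {p : ℕ} (hp : p.Prime) (h19 : 19 ≤ p) {x : X} (hx : orderOf x = p)
    (hC : Nat.card (centralizer ({x} : Set X)) = p)
    (hpow : ∀ k : ℕ, 0 < k → k < p → IsConj x (x ^ k) ∨ IsConj x⁻¹ (x ^ k)) (hni : ¬ IsConj x x⁻¹)
    (α : MulAut X) (hα : IsConj (α x) x⁻¹) : charDegrees X ≠ charDegrees (MulAut X) := by
  refine ne_of_inverted' hp hx hC hpow hni α hα (C := 2 * p)
    (by have := card_cent_le hinj hi x; rwa [hC] at this) ?_
  intro a m ha hm ⟨t, ht⟩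
  by_contra hne
  have h19' : (19 : ℤ) ≤ p := by exact_mod_cast h19
  have ht0 : t ≠ 0 := by
    rintro rfl
    apply hne
    linarith
  have ht1 : 1 ≤ t * t := by
    have := mul_self_pos.2 ht0
    omega
  push_cast at hm
  -- `p² ≤ (a - 2 m)² ≤ (1 + 2 · (3/2)) a² ...`
  have h1 : (p : ℤ) * p ≤ (a - 2 * m) * (a - 2 * m) := by
    rw [ht]
    nlinarith [mul_self_nonneg (p : ℤ)]
  -- `(a - 2m)² ≤ 3 a² + 6 m²`
  have h2 : (a - 2 * m) * (a - 2 * m) ≤ 3 * (a * a) + 6 * (m * m) := by nlinarith [mul_self_nonneg (a + m)]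
  nlinarith

/-- **OUT row** from an element of prime order inverted by an automorphism -/
theorem out_of_inverted {X : Type v} [Group X] [Finite X] (hinj : Function.Injective (MulAut.conj : X →* MulAut X))
    (hi : (MulAut.conj : X →* MulAut X).range.index ≤ 2) {p : ℕ} (hp : p.Prime) (h19 : 19 ≤ p) {x : X} (hx : orderOf x = p)
    (hC : Nat.card (centralizer ({x} : Set X)) = p)
    (hpow : ∀ k : ℕ, 0 < k → k < p → IsConj x (x ^ k) ∨ IsConj x⁻¹ (x ^ k)) (hni : ¬ IsConj x x⁻¹)
    (α : MulAut X) (hα : IsConj (α x) x⁻¹) : H704.S8.OutRow3 2 X :=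
  ⟨hi, fun _ => ne_of_inverted hinj hi hp h19 hx hC hpow hni α hα⟩

end Cfsg.Agent.H62.S8.InvDeg
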