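import Cfsg.Agent.H62.S8.ONOut
import Cfsg.Agent.H535.Ore.ON
import Cfsg.Agent.H707.Odd.Mod
import Cfsg.Agent.H109.S8.AutDeg

/-!
# S4908, the O'Nan group: conditions on the degrees (helper62)

`okX_of` : the degrees of the O'Nan group divide its order, are `0, ±1, ±15` modulo `31`, `0, ±1` modulo `11`, and are at
least 3255 if they are `±1` modulo `11` (and not one). `okD_of` : the degrees in `D`, for both sets `D`.
-/

set_option autoImplicit false

namespace Cfsg.Agent.H62.S8.ONDeg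

open Cfsg Subgroup Cfsg.Agent.H704.S8 Cfsg.Agent.Characters.Core
open Cfsg.Agent.H424.DegTools (mem_charDegrees dvd_card)
open Cfsg.Spor (ON)
open Cfsg.Agent.KFacts.ON.Cent (hON finite_ON)

universe u v

/-- residues modulo a prime with a self-centralizing Sylow subgroup -/
theorem res {p e : ℕ} [Fact p.Prime] (hp2 : p ≠ 2) (hfac : (Nat.card ON).factorization p = 1) {x : ON}
    (hx : orderOf x = p) (hC : Nat.card (centralizer ({x} : Set ON)) = p)
    (he : Nat.card (zpowers x).normalizerMonoidHom.range = e) {d : ℕ} (hd : d ∈ charDegrees ON) :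
    p ∣ d ∨ (d : ℤ) ≡ 1 [ZMOD p] ∨ (d : ℤ) ≡ -1 [ZMOD p] ∨ (d : ℤ) ≡ (e : ℤ) [ZMOD p] ∨
      (d : ℤ) ≡ -(e : ℤ) [ZMOD p] := by
  have hfin := finite_ON
  obtain ⟨χ, hχ, h1⟩ := mem_charDegrees.1 hd
  obtain ⟨P, hP⟩ : ∃ P : Sylow p ON, (P : Subgroup ON) = zpowers x :=
    ⟨Sylow.ofCard (zpowers x) (by rw [Nat.card_zpowers, hx, hfac, pow_one]), rfl⟩
  have hcz : centralizer ((P : Subgroup ON) : Set ON) = centralizer ({x} : Set ON) := by
    rw [hP, zpowers_eq_closure, centralizer_closure]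
  refine H707.Odd.degree_mod hp2 P ?_ ?_ ?_ (⟨χ, hχ⟩ : IrrCharacter ON) h1
  · show Nat.card (P : Subgroup ON) = p
    rw [hP, Nat.card_zpowers, hx]
  · rw [hcz, hC]
  · rw [← he, ← Blocks.SylowColumns.card_range, hP]

theorem card_on : Nat.card ON = 460815505920 := hON.2

theorem fac31 : (Nat.card ON).factorization 31 = 1 := by
  rw [card_on, show (460815505920 : ℕ) = 31 ^ 1 * 14865016320 by norm_num, Nat.factorization_mul (by norm_num)
    (by norm_num), Nat.Prime.factorization_pow (by norm_num)]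
  simp [Nat.factorization_eq_zero_of_not_dvd (show ¬ 31 ∣ 14865016320 by norm_num)]

theorem fac11 : (Nat.card ON).factorization 11 = 1 := by
  rw [card_on, show (460815505920 : ℕ) = 11 ^ 1 * 41892318720 by norm_num, Nat.factorization_mul (by norm_num)
    (by norm_num), Nat.Prime.factorization_pow (by norm_num)]
  simp [Nat.factorization_eq_zero_of_not_dvd (show ¬ 11 ∣ 41892318720 by norm_num)]

theorem res31 {d : ℕ} (hd : d ∈ charDegrees ON) :
    d % 31 = 0 ∨ d % 31 = 1 ∨ d % 31 = 15 ∨ d % 31 = 16 ∨ d % 31 = 30 := by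
  have : Fact (Nat.Prime 31) := ⟨by norm_num⟩
  have hx := ONWord.order_xx hON.1
  obtain ⟨h1, h2⟩ := H210.On7.thirtyone hx
  have h := res (by norm_num) fac31 hx h1 h2 hd
  simp only [Int.ModEq] at h
  push_cast at h
  omega

theorem res11 {d : ℕ} (hd : d ∈ charDegrees ON) : d % 11 = 0 ∨ d % 11 = 1 ∨ d % 11 = 10 := by
  have : Fact (Nat.Prime 11) := ⟨by norm_num⟩
  obtain ⟨y, hy, hC⟩ := H474.ONC.exists_eleven
  have h := res (by norm_num) fac11 hy hC (H210.On7.range_eleven hy) hd
  simp only [Int.ModEq] at h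
  push_cast at h
  omega

/-- the filter for the degrees of the O'Nan group -/
def okX (d : ℕ) : Bool := (460815505920 % d == 0) && (([0, 1, 15, 16, 30] : List ℕ).contains (d % 31)) &&
  (([0, 1, 10] : List ℕ).contains (d % 11)) && (d == 1 || d % 11 == 0 || Nat.ble 3255 d)

/-- the filter for the degrees in `D` -/
def okD (d : ℕ) : Bool := okX d || (d % 2 == 0 && d != 2 && okX (d / 2))

theorem okX_of {d : ℕ} (hd : d ∈ charDegrees ON) : okX d = true := by
  have hfin := finite_ON
  have hs : IsSimpleGroup ON := hON.1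
  have h1 : d ∣ 460815505920 := by rw [← card_on]; exact dvd_card hd
  have h2 := res31 hd
  have h3 := res11 hd
  have h4 : d = 1 ∨ d % 11 = 0 ∨ 3255 ≤ d := by
    by_cases h5 : d = 1
    · exact Or.inl h5
    rcases h3 with h3 | h3
    · exact Or.inr (Or.inl h3)
    · refine Or.inr (Or.inr ?_)
      obtain ⟨Δ⟩ := H210.On7.exists_data
      obtain ⟨χ, hχ, hχ1⟩ := mem_charDegrees.1 hd
      have h6 : charDegree χ = d := Blocks.Basic.charDegree_of_eq hχ1
      have h7 := H535.Ore.ON.deg_ge H535.Ore.ON.not_comm Δ (⟨χ, hχ⟩ : IrrCharacter ON) (by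
        intro h
        change χ = 1 at h
        rw [h, Pi.one_apply] at hχ1
        exact h5 (by exact_mod_cast hχ1.symm)) (by change charDegree χ % 11 = 1 ∨ charDegree χ % 11 = 10; rw [h6]; exact h3)
      change 3255 ≤ charDegree χ at h7
      rwa [h6] at h7
  have h5 : 460815505920 % d = 0 := Nat.mod_eq_zero_of_dvd h1
  simp only [okX, Bool.and_eq_true, Bool.or_eq_true, beq_iff_eq, List.contains_iff_mem, List.mem_cons,
    List.not_mem_nil, or_false, Nat.ble_eq]
  exact ⟨⟨⟨h5, h2⟩, h3⟩, by tauto⟩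

theorem okD_aut {d : ℕ} (hd : d ∈ charDegrees (MulAut ON)) : okD d = true := by
  have hfin := finite_ON
  have hs : IsSimpleGroup ON := hON.1
  have hna := ONOut.not_comm
  have hc : center ON = ⊥ := by
    rw [eq_bot_iff]
    intro z hz
    rw [mem_bot]
    exact H681.SimpleChar.eq_one_of_central (fun h => hna ⟨⟨h⟩⟩) fun y => ((mem_center_iff.1 hz) y).symm
  have h2 : d ≠ 2 := by
    rintro rfl
    have hsr : IsSimpleGroup (MulAut.conj : ON →* MulAut ON).range :=
      (MonoidHom.ofInjective (H515.S8.conj_injective hna)).symm.isSimpleGroup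
    refine H515.S8.two_notMem (MulAut.conj : ON →* MulAut ON).range ?_ ONOut.index_le hd
    intro h
    apply hna
    refine ⟨⟨fun a b => ?_⟩⟩
    apply H515.S8.conj_injective hna
    rw [map_mul, map_mul]
    have := h.is_comm.comm ⟨MulAut.conj a, a, rfl⟩ ⟨MulAut.conj b, b, rfl⟩
    exact congrArg Subtype.val this
  rcases H109.S8.deg_aut hc (show (MulAut.conj : ON →* MulAut ON).range.index = 2 from Cfsg.Agent.S2078.result) hd with
    h | ⟨χ, χ', f, -, h3, -, h4⟩
  · rw [okD, okX_of h, Bool.true_or]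
  · have h5 := okX_of (mem_charDegrees.2 ⟨_, χ.2, h3⟩)
    subst h4
    simp only [okD, Bool.or_eq_true, Bool.and_eq_true, beq_iff_eq, bne_iff_ne]
    right
    refine ⟨⟨by omega, h2⟩, ?_⟩
    rw [Nat.mul_div_cancel_left _ (by norm_num)]
    exact h5

/-- **the degrees in `D`** -/
theorem okD_of {X : Type v} [Group X] (e : X ≃* ON) {D : Set ℕ} (hD : Deg 2 X D) {d : ℕ} (hd : d ∈ D) :
    okD d = true := by
  rcases hD with rfl | ⟨-, rfl⟩
  · rw [H424.DegTools.charDegrees_congr e] at hd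
    rw [okD, okX_of hd, Bool.true_or]
  · rw [H424.DegTools.charDegrees_congr (MulAut.congr e)] at hd
    exact okD_aut hd

theorem okD_dvd {d : ℕ} (h : okD d = true) : d ∣ 921631011840 := by
  simp only [okD, okX, Bool.and_eq_true, Bool.or_eq_true, beq_iff_eq] at h
  rcases h with h | ⟨⟨h1, -⟩, h⟩
  · exact (Nat.dvd_of_mod_eq_zero h.1.1.1).trans (by norm_num)
  · have h2 := Nat.dvd_of_mod_eq_zero h.1.1.1
    obtain ⟨k, rfl⟩ := Nat.dvd_of_mod_eq_zero h1
    rw [Nat.mul_div_cancel_left _ (by norm_num)] at h2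
    obtain ⟨m, hm⟩ := h2
    exact ⟨m, by rw [show (921631011840 : ℕ) = 2 * 460815505920 by norm_num, hm]; ring⟩

end Cfsg.Agent.H62.S8.ONDeg
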