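import Cfsg.Agent.H62.S8.ONWord
import Cfsg.Agent.H62.S8.InvDeg
import Cfsg.Agent.H62.S8.HalfPow
import Cfsg.Agent.H210.On7.Primes
import Cfsg.Agent.H498.SporOut
import Cfsg.Agent.H515.S8.End
import Cfsg.Agent.S2078

/-!
# S4908, the O'Nan group: the OUT row (helper62)

`out_on` : `OutRow3 2 X` for `X` isomorphic to the O'Nan group: an outer automorphism inverts an element of order 31, with
centralizer of order 31 and automizer of order 15.
-/

set_option autoImplicit false

namespace Cfsg.Agent.H62.S8.ONOut

open Cfsg Subgroup Cfsg.Agent.H704.S8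
open Cfsg.Spor (ON)
open Cfsg.Agent.KFacts.ON.Cent (hON finite_ON)
open Cfsg.Agent.H62.S8.ONWord

universe u v

theorem index_le : (MulAut.conj : ON →* MulAut ON).range.index ≤ 2 :=
  (show (MulAut.conj : ON →* MulAut ON).range.index = 2 from Cfsg.Agent.S2078.result).le

theorem not_comm : ¬ IsMulCommutative ON := by
  intro h
  have hs := hON.1
  have h1 := (Group.is_simple_iff_prime_card (α := ON)).1 hs
  rw [hON.2] at h1
  exact absurd h1 (by norm_num)

theorem ne_model : charDegrees ON ≠ charDegrees (MulAut ON) := by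
  have := finite_ON
  have hs : IsSimpleGroup ON := hON.1
  have hx := order_xx hON.1
  obtain ⟨h1, h2⟩ := H210.On7.thirtyone hx
  obtain ⟨h3, h4⟩ := HalfPow.half (by norm_num : Nat.Prime 31) hx (by decide : Odd 15) h2 (by norm_num)
  refine InvDeg.ne_of_inverted (H515.S8.conj_injective not_comm) index_le (by norm_num : Nat.Prime 31) (by norm_num) hx h1
    h3 h4 (UGT.C.BalON.bt hON) ?_
  rw [bt_xx hON]

/-- **the OUT row of the O'Nan group** -/
theorem out_iso {X : Type v} [Group X] (h : Spor.IsoON X) : OutRow3 2 X := by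
  obtain ⟨e⟩ := h
  refine ⟨by rw [H498.SporOut.index_congr e]; exact index_le, fun _ => ?_⟩
  rw [H424.DegTools.charDegrees_congr e, H424.DegTools.charDegrees_congr (MulAut.congr e)]
  exact ne_model

end Cfsg.Agent.H62.S8.ONOut
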